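import Groth.Agent.Versch53.Basic

/-! A finite commutative group scheme killed by Frobenius powers is killed by the same power of p. -/

set_option autoImplicit false
universe u

open scoped TensorProduct

namespace Groth.Agent.Hopf35.FrobKill

variable {k H S : Type u} [Field k] [CommRing H] [HopfAlgebra k H] [Coalgebra.IsCocomm k H]
  [FiniteDimensional k H] [CommRing S] [Algebra k S]

theorem pow_apply_mem (p : ℕ) [Fact p.Prime] [CharP k p] (f : WithConv (H →ₐ[k] S)) (n : ℕ)
    (hf : ∀ a : H, Coalgebra.counit (R := k) a = 0 → f.ofConv a ^ (p ^ (n + 1)) = 0)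
    (a : H) (ha : Coalgebra.counit (R := k) a = 0) : (f ^ p).ofConv a ^ (p ^ n) = 0 := by
  classical
  let x : WithConv (H →ₗ[k] S) := WithConv.toConv f.ofConv.toLinearMap
  obtain ⟨m, ⟨b⟩⟩ : ∃ m, Nonempty (Module.Basis (Fin m) k H) := ⟨_, ⟨Module.finBasis k H⟩⟩
  let up : Fin m → WithConv (H →ₗ[k] S) :=
    fun i => WithConv.toConv (Algebra.linearMap k S ∘ₗ b.coord i)
  let g : Fin m → CartDual.D k H := fun i => WithConv.toConv (b.coord i)
  have hx : x = ∑ i, x (b i) • up i := by
    apply WithConv.ext
    apply LinearMap.ext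
    intro c
    conv_lhs => rw [← b.sum_repr c]
    simp only [map_sum, map_smul, WithConv.ofConv_sum, LinearMap.sum_apply, WithConv.ofConv_smul,
      LinearMap.smul_apply, smul_eq_mul, up, WithConv.ofConv_toConv, LinearMap.coe_comp,
      Function.comp_apply, Algebra.linearMap_apply, Module.Basis.coord_apply]
    exact Finset.sum_congr rfl fun i _ => by rw [Algebra.smul_def, mul_comm]
  have hpow : ∀ i (j : ℕ),
      (up i) ^ j = WithConv.toConv (Algebra.linearMap k S ∘ₗ ((g i) ^ j).ofConv) := by
    intro i j
    induction j with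
    | zero =>
      apply WithConv.ext
      apply LinearMap.ext
      intro c
      simp [LinearMap.convOne_def]
    | succ j ih =>
      rw [pow_succ, pow_succ, ih]
      apply WithConv.ext
      apply LinearMap.ext
      intro c
      rw [LinearMap.convMul_apply]
      simp only [WithConv.ofConv_toConv, LinearMap.coe_comp, Function.comp_apply]
      rw [LinearMap.convMul_apply]
      generalize Coalgebra.comul (R := k) c = t
      induction t using TensorProduct.induction_on with
      | zero => simp
      | tmul d e => simp [up, g, CartDual.coe_apply]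
      | add y z hy hz => simp only [map_add, hy, hz]
  have hS : (p : S) = 0 := by rw [← map_natCast (algebraMap k S), CharP.cast_eq_zero, map_zero]
  have key : ∀ c, (f ^ p).ofConv c = ∑ i, f.ofConv (b i) ^ p * algebraMap k S (((g i) ^ p) c) := by
    intro c
    have h1 : (x ^ p) c = (f ^ p).ofConv c := by
      rw [Versch53.toLinearMap_pow]; rfl
    rw [← h1]
    conv_lhs => rw [hx]
    rw [Versch53.sum_pow_char_of_zero (Versch53.natCast_conv_eq_zero (R := k) (CharP.cast_eq_zero k p))]
    simp only [smul_pow, hpow, WithConv.ofConv_sum, LinearMap.sum_apply, WithConv.ofConv_smul,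
      LinearMap.smul_apply, smul_eq_mul, WithConv.ofConv_toConv, LinearMap.coe_comp,
      Function.comp_apply, Algebra.linearMap_apply]
    rfl
  let c : Fin m → H := fun i => b i - algebraMap k H (Coalgebra.counit (R := k) (b i))
  have hc : ∀ i, Coalgebra.counit (R := k) (c i) = 0 := fun i => by simp [c]
  let q := p ^ n
  have hqp : p ^ (n + 1) = p * q := by rw [pow_succ, mul_comm]
  haveI : ExpChar k p := ExpChar.prime Fact.out
  have hsum : ∀ s : Fin m → S, (∑ i, s i) ^ q = ∑ i, s i ^ q := by
    intro s
    rcases subsingleton_or_nontrivial S with h | h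
    · exact Subsingleton.elim _ _
    · haveI : CharP S p := (CharP.charP_iff_prime_eq_zero Fact.out).2 hS
      exact sum_pow_char_pow p n _ _
  have hfb : ∀ i, f.ofConv (b i) ^ (p ^ (n + 1)) = algebraMap k S (Coalgebra.counit (R := k) (b i) ^ (p ^ (n + 1))) := by
    intro i
    have h := hf (c i) (hc i)
    rcases subsingleton_or_nontrivial S with h' | h'
    · exact Subsingleton.elim _ _
    · haveI : CharP S p := (CharP.charP_iff_prime_eq_zero Fact.out).2 hS
      simp only [c, map_sub, AlgHom.commutes, sub_pow_char_pow, sub_eq_zero] at h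
      rw [h, map_pow]
  have heps : ∑ i, Coalgebra.counit (R := k) (b i) ^ p * ((g i) ^ p) a = 0 := by
    let ε : WithConv (H →ₐ[k] k) := WithConv.toConv (Bialgebra.counitAlgHom k H)
    have h1 : (ε ^ p).ofConv a = 0 := by
      rw [show ε = 1 from rfl, one_pow]
      exact ha
    let xk : WithConv (H →ₗ[k] k) := WithConv.toConv (Coalgebra.counit (R := k))
    have hxk : xk = ∑ i, xk (b i) • g i := by
      apply WithConv.ext
      apply LinearMap.ext
      intro z
      conv_lhs => rw [← b.sum_repr z]
      simp only [map_sum, map_smul, WithConv.ofConv_sum, LinearMap.sum_apply, WithConv.ofConv_smul,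
        LinearMap.smul_apply, smul_eq_mul, g, WithConv.ofConv_toConv, Module.Basis.coord_apply]
      exact Finset.sum_congr rfl fun i _ => mul_comm _ _
    have h2 : (xk ^ p) a = (ε ^ p).ofConv a := by
      show ((WithConv.toConv ε.ofConv.toLinearMap) ^ p) a = _
      rw [Versch53.toLinearMap_pow]; rfl
    rw [← h1, ← h2]
    conv_rhs => rw [hxk, Versch53.sum_pow_char_of_zero (Versch53.natCast_conv_eq_zero (R := k) (CharP.cast_eq_zero k p))]
    simp only [smul_pow, WithConv.ofConv_sum, LinearMap.sum_apply, WithConv.ofConv_smul,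
      LinearMap.smul_apply, smul_eq_mul]
    rfl
  rw [key, hsum]
  have : ∀ i, (f.ofConv (b i) ^ p * algebraMap k S (((g i) ^ p) a)) ^ q =
      algebraMap k S ((Coalgebra.counit (R := k) (b i) ^ p * ((g i) ^ p) a) ^ q) := by
    intro i
    rw [mul_pow, ← pow_mul, ← hqp, hfb, mul_pow, ← pow_mul, ← hqp, map_mul, map_pow, map_pow]
  simp only [this, ← map_sum]
  rw [← sum_pow_char_pow p n, heps, zero_pow (pow_ne_zero _ (Fact.out : p.Prime).ne_zero), map_zero]

/-- If Frobenius to the power `p^n` kills the augmentation ideal, `[p^n]` is trivial. -/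
theorem pow_eq_one (p : ℕ) [Fact p.Prime] [CharP k p] : ∀ (n : ℕ) (f : WithConv (H →ₐ[k] S)),
    (∀ a : H, Coalgebra.counit (R := k) a = 0 → f.ofConv a ^ (p ^ n) = 0) → f ^ (p ^ n) = 1 := by
  intro n
  induction n with
  | zero =>
    intro f hf
    rw [pow_zero, pow_one]
    apply WithConv.ext
    apply AlgHom.ext
    intro a
    have h := hf (a - algebraMap k H (Coalgebra.counit (R := k) a)) (by simp)
    rw [pow_zero, pow_one, map_sub, AlgHom.commutes, sub_eq_zero] at h
    rw [h, AlgHom.convOne_def]
    rfl
  | succ n ih =>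
    intro f hf
    rw [pow_succ', pow_mul]
    exact ih _ fun a ha => pow_apply_mem p f n hf a ha

end Groth.Agent.Hopf35.FrobKill
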