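import Groth.Agent.Hopf35.FrobKill.Conv
import Groth.Agent.NeronHD28.EtaleIsogeny
import Groth.Agent.Deligne57.Affine
import Groth.Agent.Alb96.Hom
import Mathlib.AlgebraicGeometry.ZariskisMainTheorem

/-! Frobenius of an abelian variety divides multiplication by q. -/

set_option autoImplicit false
set_option linter.style.haveILetI false
universe u

open CategoryTheory CategoryTheory.Limits MonoidalCategory CartesianMonoidalCategory MonObj GrpObj AlgebraicGeometry
open WithConv

noncomputable section

namespace Groth.Agent.Hopf35.FrobKill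

variable {k : Type u} [Field k]

/-- The comorphism of a morphism from an affine scheme landing in an affine open. -/
theorem exists_coMap {X : Scheme.{u}} {R : CommRingCat.{u}} (j : Spec R ⟶ X) {V : X.Opens}
    (hV : IsAffineOpen V) (hj : ∀ z, j z ∈ V) :
    ∃ φ : Γ(X, V) ⟶ R, Spec.map φ ≫ hV.fromSpec = j ∧ (IsClosedImmersion j → Function.Surjective φ) := by
  have hle : (⊤ : (Spec R).Opens) ≤ j ⁻¹ᵁ V := fun z _ => hj z
  refine ⟨j.appLE V ⊤ hle ≫ (Scheme.ΓSpecIso R).hom, ?_, fun hcl => ?_⟩
  · rw [Spec.map_comp, Category.assoc, IsAffineOpen.SpecMap_appLE_fromSpec j hV (isAffineOpen_top _) hle,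
      IsAffineOpen.fromSpec_top, Scheme.isoSpec_Spec_inv, ← Spec.map_comp_assoc, Iso.inv_hom_id,
      Spec.map_id, Category.id_comp]
  · have h1 : Function.Surjective (j.appLE V ⊤ hle) := by
      rw [Scheme.Hom.appLE]
      have he : (⊤ : (Spec R).Opens) = j ⁻¹ᵁ V := le_antisymm hle le_top
      have : IsIso ((Spec R).presheaf.map (homOfLE hle).op) := by
        have : IsIso (homOfLE hle) := ⟨homOfLE he.ge, Subsingleton.elim _ _, Subsingleton.elim _ _⟩
        infer_instance
      exact (ConcreteCategory.bijective_of_isIso ((Spec R).presheaf.map (homOfLE hle).op)).2.comp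
        (Scheme.Hom.app_surjective j V hV)
    exact (Scheme.ΓSpecIso R).commRingCatIsoToRingEquiv.surjective.comp h1

set_option maxHeartbeats 1000000 in
theorem exists_quotient_frobenius [Finite k] (X : Over (Spec (CommRingCat.of k))) [GrpObj X]
    [IsCommMonObj X] [IsProper X.hom] [GeometricallyIntegral X.hom]
    (πX : X ⟶ X) [IsMonHom πX] (hπb : πX.left.base = 𝟙 _)
    (hπle : ∀ U : X.left.Opens, U ≤ πX.left ⁻¹ᵁ U)
    (hπapp : ∀ (U : X.left.Opens) (s : Γ(X.left, U)), (πX.left.appLE U U (hπle U)).hom s = s ^ Nat.card k) :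
    ∃ (v : X ⟶ X) (_ : IsMonHom v), πX ≫ v = (𝟙 X) ^ Nat.card k ∧ v ≫ πX = (𝟙 X) ^ Nat.card k := by
  classical
  letI : Fintype k := Fintype.ofFinite k
  obtain ⟨p, hpc⟩ := CharP.exists k
  obtain ⟨r, hp, hq⟩ := FiniteField.card k p
  haveI : Fact p.Prime := ⟨hp⟩
  set q := Nat.card k with hqdef
  have hqp : q = p ^ (r : ℕ) := by rw [hqdef, Nat.card_eq_fintype_card, hq]
  haveI : IsIntegral X.left := GeometricallyIntegral.isIntegral_of_subsingleton X.hom
  have hbase : ∀ z : X.left, πX.left z = z := fun z => by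
    show πX.left.base z = z
    rw [hπb]; rfl
  haveI : Surjective πX.left := ⟨fun z => ⟨z, hbase z⟩⟩
  haveI : IsProper (πX.left ≫ X.hom) := by rw [Over.w πX]; infer_instance
  haveI : IsProper πX.left := IsProper.of_comp πX.left X.hom
  haveI : LocallyQuasiFinite πX.left := LocallyQuasiFinite.of_finite_preimage_singleton πX.left fun z =>
    (Set.finite_singleton z).subset fun w (hw : πX.left w = z) => by rw [← hw, hbase]; rfl
  haveI : IsFinite πX.left := IsFinite.of_isProper_of_locallyQuasiFinite πX.left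
  -- the kernel
  let N : Over (Spec (CommRingCat.of k)) := pullback πX η[X]
  let i : N ⟶ X := pullback.fst πX η[X]
  have hker : AlgGrp.IsKernel i πX := by
    have h := IsPullback.of_hasPullback πX η[X]
    rwa [show pullback.snd πX η[X] = toUnit N from toUnit_unique _ _] at h
  have hleft : IsPullback i.left (toUnit N).left πX.left η[X].left := hker.map (Over.forget _)
  haveI : IsFinite (toUnit N).left := MorphismProperty.of_isPullback hleft inferInstance
  haveI : IsFinite N.hom := by
    rw [← Over.w (toUnit N)]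
    haveI : IsIso (𝟙_ (Over (Spec (CommRingCat.of k)))).hom := inferInstanceAs (IsIso (𝟙 _))
    infer_instance
  haveI : IsClosedImmersion (η[X].left ≫ X.hom) := by
    rw [Over.w η[X]]; exact inferInstanceAs (IsClosedImmersion (𝟙 _))
  haveI : IsClosedImmersion η[X].left :=
    MorphismProperty.of_postcomp (W' := @IsSeparated) @IsClosedImmersion η[X].left X.hom inferInstance inferInstance
  haveI : IsClosedImmersion i.left := MorphismProperty.of_isPullback hleft.flip inferInstance
  haveI := AlgGrp79.mono_of_isKernel hker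
  obtain ⟨_, _⟩ : ∃ (_ : GrpObj N), IsMonHom i := by
    refine RedPts82.exists_grpObj_mono i (fun T => ?_) (fun T a b => ?_) fun T a => ?_
    · exact AlgGrp79.exists_ker_of_comp_one hker 1 (MonObj.one_comp πX)
    · exact AlgGrp79.exists_ker_of_comp_one hker _ (by
        rw [MonObj.mul_comp, AlgGrp79.isKernel_comp_one hker, AlgGrp79.isKernel_comp_one hker, _root_.one_mul])
    · exact AlgGrp79.exists_ker_of_comp_one hker _ (by
        rw [GrpObj.inv_comp, AlgGrp79.isKernel_comp_one hker, inv_one])
  haveI := NeronHD28.isCommMonObj_of_mono i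
  -- `[q]` kills the kernel
  have hN : (𝟙 N) ^ q = 1 := by
    have : IsAffine N.left := isAffine_of_isAffineHom N.hom
    obtain ⟨Hop, ⟨e⟩⟩ := (essImage_hopfSpec (G := Grp.mk N)).2 ‹_›
    let H := Hop.unop
    let ψ : (Spec (CommRingCat.of H)).asOver (Spec (CommRingCat.of k)) ≅ N := (Grp.forget _).mapIso e
    have : IsMonHom ψ.hom := e.hom.hom.isMonHom_hom
    have : IsMonHom ψ.inv := e.inv.hom.isMonHom_hom
    have hhom : ψ.hom.left ≫ N.hom = Spec.map (CommRingCat.ofHom (algebraMap k H)) := Over.w ψ.hom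
    have : IsIso ψ.hom.left := ((Over.forget _).mapIso ψ).isIso_hom
    have hfin : IsFinite (Spec.map (CommRingCat.ofHom (algebraMap k H))) := by
      haveI h1 : IsFinite ψ.hom.left := inferInstance
      rw [← hhom]; exact MorphismProperty.comp_mem @IsFinite ψ.hom.left N.hom h1 ‹_›
    rw [IsFinite.SpecMap_iff, CommRingCat.hom_ofHom, RingHom.finite_algebraMap] at hfin
    have : Coalgebra.IsCocomm k H :=
      Deligne57.isCocomm_of_commute (C := CommRingCat.of k) (H := CommRingCat.of H) fun T a b => by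
        rw [← cancel_mono ψ.hom, mul_comp, mul_comp]
        exact mul_comm _ _
    let E := Spec.mapMulEquiv (R := CommRingCat.of k) (S := H) (T := H)
    let f : WithConv (H →ₐ[k] H) := toConv (AlgHom.id k H)
    let j : Spec (CommRingCat.of H) ⟶ X.left := ψ.hom.left ≫ i.left
    let e₀ : X.left := η[X].left (IsLocalRing.closedPoint k)
    obtain ⟨V, hV, he₀, -⟩ := exists_isAffineOpen_mem_and_subset (U := (⊤ : X.left.Opens)) (x := e₀) trivial
    have hjπ : j ≫ πX.left = Spec.map (CommRingCat.ofHom (algebraMap k H)) ≫ η[X].left := by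
      show (ψ.hom.left ≫ i.left) ≫ πX.left = _
      rw [Category.assoc, hleft.w, ← Category.assoc, ← hhom]
      congr 1
    have hjV : ∀ z, j z ∈ V := fun z => by
      have h := congrArg (fun m : Spec (CommRingCat.of H) ⟶ X.left => m z) hjπ
      simp only [Scheme.Hom.comp_apply, hbase] at h
      rw [h, Subsingleton.elim (α := PrimeSpectrum k) ((Spec.map (CommRingCat.ofHom (algebraMap k H))) z)
        (IsLocalRing.closedPoint k)]
      exact he₀
    haveI : IsClosedImmersion j := inferInstanceAs (IsClosedImmersion (ψ.hom.left ≫ i.left))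
    obtain ⟨φ, hφ, hφs⟩ := exists_coMap j hV hjV
    obtain ⟨c, hc, -⟩ := exists_coMap (R := CommRingCat.of k) η[X].left hV fun z => by
      rw [Subsingleton.elim (α := PrimeSpectrum k) z (IsLocalRing.closedPoint k)]; exact he₀
    have hkey : ∀ s, φ s ^ q = algebraMap k H (c s) := by
      intro s
      have h : Spec.map (πX.left.appLE V V (hπle V) ≫ φ) ≫ hV.fromSpec =
          Spec.map (c ≫ CommRingCat.ofHom (algebraMap k H)) ≫ hV.fromSpec := by
        rw [Spec.map_comp, Category.assoc, IsAffineOpen.SpecMap_appLE_fromSpec πX.left hV hV (hπle V),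
          reassoc_of% hφ, hjπ, Spec.map_comp, Category.assoc, hc]
      have h2 := congr($(Spec.map_injective ((cancel_mono hV.fromSpec).1 h)) s)
      change φ ((πX.left.appLE V V (hπle V)) s) = algebraMap k H (c s) at h2
      rw [show (πX.left.appLE V V (hπle V)) s = s ^ q from hπapp V s, map_pow] at h2
      exact h2
    have hkill : ∀ a : H, Coalgebra.counit (R := k) a = 0 → f.ofConv a ^ (p ^ (r : ℕ)) = 0 := by
      intro a ha
      obtain ⟨s, rfl⟩ := hφs inferInstance a
      show φ s ^ _ = 0
      rw [← hqp, hkey]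
      have h := congrArg (Coalgebra.counit (R := k)) (hkey s)
      rw [← Bialgebra.counitAlgHom_apply (R := k) (A := H), map_pow, Bialgebra.counitAlgHom_apply, ha,
        zero_pow Nat.card_pos.ne', Bialgebra.counit_algebraMap] at h
      rw [← h, map_zero]
    have hf := congrArg E (pow_eq_one p (r : ℕ) f hkill)
    rw [map_pow, map_one, ← hqp] at hf
    have hEf : E f = 𝟙 _ := by
      apply Over.OverMorphism.ext
      exact Spec.map_id _
    rw [hEf] at hf
    rw [← cancel_epi ψ.hom, MonObj.comp_pow, Category.comp_id, MonObj.comp_one]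
    have h2 := congrArg (· ≫ ψ.hom) hf
    simp only [MonObj.pow_comp, MonObj.one_comp, Category.id_comp] at h2
    exact h2
  -- factorisation
  haveI : Flat πX.left := AlgGrp79.flat_of_surjective_hom πX
  haveI : EffectiveEpi πX.left := inferInstance
  have hc : ∀ {W : Scheme.{u}} (a b : W ⟶ X.left), a ≫ πX.left = b ≫ πX.left →
      a ≫ ((𝟙 X) ^ q : X ⟶ X).left = b ≫ ((𝟙 X) ^ q : X ⟶ X).left := by
    intro W a b hab
    have hw : b ≫ X.hom = a ≫ X.hom := by
      rw [← Over.w πX, reassoc_of% hab]
    let a' : Over.mk (a ≫ X.hom) ⟶ X := Over.homMk a rfl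
    let b' : Over.mk (a ≫ X.hom) ⟶ X := Over.homMk b hw
    have h0 : (a' * b'⁻¹) ≫ πX = 1 := by
      rw [MonObj.mul_comp, GrpObj.inv_comp, mul_inv_eq_one]
      exact Over.OverMorphism.ext hab
    obtain ⟨m, hm⟩ := AlgGrp79.exists_ker_of_comp_one hker _ h0
    have h1 : (a' * b'⁻¹) ^ q = 1 := by
      rw [← hm, ← MonObj.pow_comp, show m ^ q = m ≫ (𝟙 N) ^ q by rw [MonObj.comp_pow, Category.comp_id], hN,
        MonObj.comp_one, MonObj.one_comp]
    rw [mul_pow, inv_pow, mul_inv_eq_one] at h1
    have h2 : a' ≫ (𝟙 X) ^ q = b' ≫ (𝟙 X) ^ q := by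
      rw [MonObj.comp_pow, MonObj.comp_pow, Category.comp_id, Category.comp_id, h1]
    exact congrArg Over.Hom.left h2
  let v : X ⟶ X := Over.homMk (EffectiveEpi.desc πX.left _ hc)
    (by rw [← cancel_epi πX.left, EffectiveEpi.fac_assoc, Over.w, Over.w])
  have hπv : πX ≫ v = (𝟙 X) ^ q := by
    ext : 1
    exact EffectiveEpi.fac πX.left _ hc
  have hη : η[X] ≫ v = η[X] := by
    conv_lhs => rw [← IsMonHom.one_hom (f := πX), Category.assoc, hπv, MonObj.comp_pow, Category.comp_id]
    rw [show η[X] = (1 : 𝟙_ (Over (Spec (CommRingCat.of k))) ⟶ X) by simp [Hom.one_def, toUnit_unit]]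
    exact one_pow q
  refine ⟨v, Alb96.isMonHom_of_pointed v hη, hπv, ?_⟩
  haveI : Epi πX := (Over.forget _).epi_of_epi_map (inferInstanceAs (Epi πX.left))
  rw [← cancel_epi πX, ← Category.assoc, hπv, MonObj.pow_comp, Category.id_comp, MonObj.comp_pow, Category.comp_id]

end Groth.Agent.Hopf35.FrobKill
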